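/-
Codes for three by three matrices over a field with nine elements: one nibble per entry, with table
operations that the kernel evaluates quickly.
-/
import Cfsg.Agent.Lib.Char.SU33.Data

set_option autoImplicit false

namespace CfsgLib.Char.SU33

open Matrix

/-! ### Operations on element codes -/

/-- Product of element codes. -/
def eMul (a b : ℕ) : ℕ := (mulT >>> (4 * (9 * a + b))) &&& 15

/-- Sum of element codes. -/
def eAdd (a b : ℕ) : ℕ := (addT >>> (4 * (9 * a + b))) &&& 15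

/-- Conjugate of an element code. -/
def eConj (a : ℕ) : ℕ := (cjT >>> (4 * a)) &&& 15

/-- Negative of an element code. -/
def eNeg (a : ℕ) : ℕ := (negT >>> (4 * a)) &&& 15

theorem eMul_table : ∀ a < 9, ∀ b < 9, eMul a b =
    (a % 3 * (b % 3) + 2 * (a / 3) * (b / 3)) % 3 + 3 * ((a % 3 * (b / 3) + a / 3 * (b % 3)) % 3) := by
  decide +kernel

theorem eAdd_table : ∀ a < 9, ∀ b < 9, eAdd a b = (a % 3 + b % 3) % 3 + 3 * ((a / 3 + b / 3) % 3) := by
  decide +kernel

theorem op_lt : ∀ a < 9, ∀ b < 9, eMul a b < 9 ∧ eAdd a b < 9 ∧ eConj a < 9 ∧ eNeg a < 9 := by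
  decide +kernel

theorem eConj_cube : ∀ a < 9, eConj a = eMul a (eMul a a) := by decide +kernel

theorem eNeg_add : ∀ a < 9, eAdd a (eNeg a) = 0 := by decide +kernel

/-! ### The field -/

/-- A field with nine elements with a chosen square root of minus one. -/
structure Root (F : Type*) [Field F] where
  /-- The chosen root. -/
  i : F
  three : (3 : F) = 0
  sq : i * i = -1
  card : Nat.card F = 9

variable {F : Type*} [Field F]

theorem exists_root [Fintype F] (hF : Fintype.card F = 9) : Nonempty (Root F) := by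
  have h3 : (3 : F) = 0 := by
    have h : ((Fintype.card F : ℕ) : F) = 0 := FiniteField.cast_card_eq_zero F
    rw [hF, show ((9 : ℕ) : F) = 3 * 3 by norm_num] at h
    rcases mul_eq_zero.1 h with h | h <;> exact h
  obtain ⟨i, hi⟩ := FiniteField.isSquare_neg_one_iff.2 (show Fintype.card F % 4 ≠ 3 by rw [hF]; norm_num)
  exact ⟨⟨i, h3, hi.symm, by rw [Nat.card_eq_fintype_card, hF]⟩⟩

variable (R : Root F)

/-- The value of an element code. -/
def phi (a : ℕ) : F := ((a % 3 : ℕ) : F) + ((a / 3 : ℕ) : F) * R.i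

theorem cast_mod (R : Root F) (n : ℕ) : ((n % 3 : ℕ) : F) = (n : F) := by
  conv_rhs => rw [← Nat.mod_add_div n 3]
  simp [R.three]

theorem phi_mk (x y : ℕ) : phi R (x % 3 + 3 * (y % 3)) = (x : F) + (y : F) * R.i := by
  rw [phi, show (x % 3 + 3 * (y % 3)) % 3 = x % 3 by omega, show (x % 3 + 3 * (y % 3)) / 3 = y % 3 by omega,
    cast_mod R, cast_mod R]

theorem phi_mul {a b : ℕ} (ha : a < 9) (hb : b < 9) : phi R (eMul a b) = phi R a * phi R b := by
  rw [eMul_table a ha b hb, phi_mk, phi, phi]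
  push_cast
  linear_combination (- ((a / 3 : ℕ) : F) * ((b / 3 : ℕ) : F)) * R.sq +
    (((a / 3 : ℕ) : F) * ((b / 3 : ℕ) : F)) * R.three

theorem phi_add {a b : ℕ} (ha : a < 9) (hb : b < 9) : phi R (eAdd a b) = phi R a + phi R b := by
  rw [eAdd_table a ha b hb, phi_mk, phi, phi]
  push_cast
  ring

theorem phi_zero : phi R 0 = 0 := by simp [phi]

theorem phi_one : phi R 1 = 1 := by simp [phi]

theorem phi_conj {a : ℕ} (ha : a < 9) : phi R (eConj a) = phi R a ^ 3 := by
  rw [eConj_cube a ha, phi_mul R ha (op_lt a ha a ha).1, phi_mul R ha ha]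
  ring

theorem phi_neg {a : ℕ} (ha : a < 9) : phi R (eNeg a) = - phi R a := by
  have h := phi_add R ha (op_lt a ha a ha).2.2.2
  rw [eNeg_add a ha, phi_zero] at h
  exact eq_neg_of_add_eq_zero_right h.symm

theorem phi_eq_zero {a : ℕ} (ha : a < 9) (h : phi R a = 0) : a = 0 := by
  have hsq : phi R (eMul a (eConj a)) = 0 := by rw [phi_mul R ha (op_lt a ha a ha).2.2.1, h, zero_mul]
  have hcases : ∀ a < 9, eMul a (eConj a) = 0 ∧ a = 0 ∨ eMul a (eConj a) = 1 ∨ eMul a (eConj a) = 2 := by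
    decide +kernel
  have h2 : phi R 2 = -1 := by
    rw [phi]; norm_num
    linear_combination R.three
  rcases hcases a ha with ⟨-, e⟩ | e | e
  · exact e
  · rw [e, phi_one] at hsq; exact absurd hsq one_ne_zero
  · rw [e, h2] at hsq; exact absurd (neg_eq_zero.1 hsq) one_ne_zero

theorem phi_inj {a b : ℕ} (ha : a < 9) (hb : b < 9) (h : phi R a = phi R b) : a = b := by
  have h1 := phi_add R ha (op_lt b hb b hb).2.2.2
  rw [phi_neg R hb, h, add_neg_cancel] at h1
  have h2 := phi_eq_zero R (op_lt a ha _ (op_lt b hb b hb).2.2.2).2.1 h1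
  have key : ∀ a < 9, ∀ b < 9, eAdd a (eNeg b) = 0 → a = b := by decide +kernel
  exact key a ha b hb h2

theorem phi_surj (x : F) : ∃ a < 9, phi R a = x := by
  haveI : Finite F := Nat.finite_of_card_ne_zero (by rw [R.card]; norm_num)
  have hb : Function.Bijective (fun a : Fin 9 => phi R a) :=
    (Nat.bijective_iff_injective_and_card _).2
      ⟨fun a b h => Fin.ext (phi_inj R a.isLt b.isLt h), by rw [R.card, Nat.card_fin]⟩
  obtain ⟨a, ha⟩ := hb.2 x
  exact ⟨a, a.isLt, ha⟩

/-! ### Matrix codes -/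

/-- The position of an entry: rows are the fast index, the first column is the top. -/
def posOf (r c : ℕ) : ℕ := 3 * (2 - c) + r

/-- An entry of a code. -/
def entry (C k : ℕ) : ℕ := (C >>> (4 * k)) &&& 15

/-- Pack nine entries. -/
def packM (e : ℕ → ℕ) : ℕ :=
  e 0 + 16 * (e 1 + 16 * (e 2 + 16 * (e 3 + 16 * (e 4 + 16 * (e 5 + 16 * (e 6 + 16 * (e 7 + 16 * e 8)))))))

theorem entry_packM {e : ℕ → ℕ} (he : ∀ k < 9, e k < 9) : ∀ k < 9, entry (packM e) k = e k := by
  intro k hk
  have := he 0 (by norm_num)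
  have := he 1 (by norm_num)
  have := he 2 (by norm_num)
  have := he 3 (by norm_num)
  have := he 4 (by norm_num)
  have := he 5 (by norm_num)
  have := he 6 (by norm_num)
  have := he 7 (by norm_num)
  have := he 8 (by norm_num)
  rw [entry, Nat.shiftRight_eq_div_pow, show (15 : ℕ) = 2 ^ 4 - 1 from rfl, Nat.and_two_pow_sub_one_eq_mod,
    packM]
  interval_cases k <;> norm_num <;> omega

theorem packM_congr {e e' : ℕ → ℕ} (h : ∀ k < 9, e k = e' k) : packM e = packM e' := by
  simp only [packM, h 0 (by norm_num), h 1 (by norm_num), h 2 (by norm_num), h 3 (by norm_num),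
    h 4 (by norm_num), h 5 (by norm_num), h 6 (by norm_num), h 7 (by norm_num), h 8 (by norm_num)]

/-- A code all of whose entries are element codes. -/
def Wf (C : ℕ) : Prop := (∀ k < 9, entry C k < 9) ∧ packM (entry C) = C

theorem wf_packM {e : ℕ → ℕ} (he : ∀ k < 9, e k < 9) : Wf (packM e) :=
  ⟨fun k hk => by rw [entry_packM he k hk]; exact he k hk, packM_congr (entry_packM he)⟩

/-- The matrix of a code. -/
def dec (C : ℕ) : Matrix (Fin 3) (Fin 3) F := Matrix.of fun r c => phi R (entry C (posOf r c))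

theorem posOf_lt (r c : Fin 3) : posOf r c < 9 := by
  have := r.isLt; rw [posOf]; omega

theorem dec_inj {C D : ℕ} (hC : Wf C) (hD : Wf D) (h : dec R C = dec R D) : C = D := by
  have key : ∀ k < 9, ∃ r c : Fin 3, posOf r c = k := by decide +kernel
  rw [← hC.2, ← hD.2]
  refine packM_congr fun k hk => ?_
  obtain ⟨r, c, rfl⟩ := key k hk
  exact phi_inj R (hC.1 _ hk) (hD.1 _ hk) (congrFun (congrFun h r) c)

theorem dec_packM {e : ℕ → ℕ} (he : ∀ k < 9, e k < 9) (r c : Fin 3) :
    dec R (packM e) r c = phi R (e (posOf r c)) := by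
  rw [dec, Matrix.of_apply, entry_packM he _ (posOf_lt r c)]

/-- Product of matrix codes. -/
def mulM (A B : ℕ) : ℕ :=
  packM fun k => eAdd (eAdd (eMul (entry A (6 + k % 3)) (entry B (3 * (k / 3))))
    (eMul (entry A (3 + k % 3)) (entry B (3 * (k / 3) + 1))))
    (eMul (entry A (k % 3)) (entry B (3 * (k / 3) + 2)))

theorem mulM_spec {A B : ℕ} (hA : Wf A) (hB : Wf B) :
    Wf (mulM A B) ∧ dec R (mulM A B) = dec R A * dec R B := by
  have hm : ∀ a b, a < 9 → b < 9 → eMul a b < 9 := fun a b ha hb => (op_lt a ha b hb).1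
  have hadd : ∀ a b, a < 9 → b < 9 → eAdd a b < 9 := fun a b ha hb => (op_lt a ha b hb).2.1
  have he : ∀ k < 9, eAdd (eAdd (eMul (entry A (6 + k % 3)) (entry B (3 * (k / 3))))
      (eMul (entry A (3 + k % 3)) (entry B (3 * (k / 3) + 1))))
      (eMul (entry A (k % 3)) (entry B (3 * (k / 3) + 2))) < 9 := fun k hk =>
    hadd _ _ (hadd _ _ (hm _ _ (hA.1 _ (by omega)) (hB.1 _ (by omega)))
      (hm _ _ (hA.1 _ (by omega)) (hB.1 _ (by omega)))) (hm _ _ (hA.1 _ (by omega)) (hB.1 _ (by omega)))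
  refine ⟨wf_packM he, Matrix.ext fun r c => ?_⟩
  rw [mulM, dec_packM R he, Matrix.mul_apply, Fin.sum_univ_three]
  have hr := r.isLt
  have hc := c.isLt
  have e1 : posOf (r : ℕ) c % 3 = r := by rw [posOf]; omega
  have e2 : posOf (r : ℕ) c / 3 = 2 - c := by rw [posOf]; omega
  rw [e1, e2, phi_add R (hadd _ _ (hm _ _ (hA.1 _ (by omega)) (hB.1 _ (by omega)))
      (hm _ _ (hA.1 _ (by omega)) (hB.1 _ (by omega)))) (hm _ _ (hA.1 _ (by omega)) (hB.1 _ (by omega))),
    phi_add R (hm _ _ (hA.1 _ (by omega)) (hB.1 _ (by omega))) (hm _ _ (hA.1 _ (by omega)) (hB.1 _ (by omega))),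
    phi_mul R (hA.1 _ (by omega)) (hB.1 _ (by omega)), phi_mul R (hA.1 _ (by omega)) (hB.1 _ (by omega)),
    phi_mul R (hA.1 _ (by omega)) (hB.1 _ (by omega))]
  simp [dec, posOf]

/-- The code of the identity. -/
def oneM : ℕ := packM fun k => if k = 6 ∨ k = 4 ∨ k = 2 then 1 else 0

theorem oneM_spec : Wf oneM ∧ dec R oneM = 1 := by
  refine ⟨wf_packM fun k _ => by split_ifs <;> norm_num, Matrix.ext fun r c => ?_⟩
  rw [oneM, dec_packM R fun k _ => by split_ifs <;> norm_num]
  fin_cases r <;> fin_cases c <;> simp [posOf, phi]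

/-- Subtract the identity. -/
def subOne (A : ℕ) : ℕ :=
  packM fun k => if k = 6 ∨ k = 4 ∨ k = 2 then eAdd (entry A k) 2 else entry A k

theorem subOne_spec {A : ℕ} (hA : Wf A) : Wf (subOne A) ∧ dec R (subOne A) = dec R A - 1 := by
  have he : ∀ k < 9, (if k = 6 ∨ k = 4 ∨ k = 2 then eAdd (entry A k) 2 else entry A k) < 9 := fun k hk => by
    split_ifs
    · exact (op_lt _ (hA.1 k hk) 2 (by norm_num)).2.1
    · exact hA.1 k hk
  have h2 : phi R 2 = -1 := by
    rw [phi]; norm_num
    linear_combination R.three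
  refine ⟨wf_packM he, Matrix.ext fun r c => ?_⟩
  rw [subOne, dec_packM R he]
  have hadd : ∀ k < 9, phi R (eAdd (entry A k) 2) = phi R (entry A k) - 1 := fun k hk => by
    rw [phi_add R (hA.1 k hk) (by norm_num), h2, sub_eq_add_neg]
  fin_cases r <;> fin_cases c <;>
    simp [posOf, dec, hadd 6 (by norm_num), hadd 4 (by norm_num), hadd 2 (by norm_num)]

/-- Conjugate transpose. -/
def invM (A : ℕ) : ℕ := packM fun k => eConj (entry A (3 * (2 - k % 3) + (2 - k / 3)))

theorem invM_spec {A : ℕ} (hA : Wf A) :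
    Wf (invM A) ∧ dec R (invM A) = (dec R A).transpose.map (fun x => x ^ 3) := by
  have he : ∀ k < 9, eConj (entry A (3 * (2 - k % 3) + (2 - k / 3))) < 9 := fun k hk =>
    (op_lt _ (hA.1 _ (by omega)) _ (hA.1 _ (show 3 * (2 - k % 3) + (2 - k / 3) < 9 by omega))).2.2.1
  refine ⟨wf_packM he, Matrix.ext fun r c => ?_⟩
  rw [invM, dec_packM R he, phi_conj R (hA.1 _ (by have := r.isLt; have := c.isLt; simp only [posOf]; omega))]
  fin_cases r <;> fin_cases c <;> rfl

/-- Trace. -/
def trM (A : ℕ) : ℕ := eAdd (eAdd (entry A 6) (entry A 4)) (entry A 2)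

theorem trM_spec {A : ℕ} (hA : Wf A) : trM A < 9 ∧ phi R (trM A) = Matrix.trace (dec R A) := by
  have h := fun k (hk : k < 9) => hA.1 k hk
  have h1 := (op_lt _ (h 6 (by norm_num)) _ (h 4 (by norm_num))).2.1
  refine ⟨(op_lt _ h1 _ (h 2 (by norm_num))).2.1, ?_⟩
  rw [trM, phi_add R h1 (h 2 (by norm_num)), phi_add R (h 6 (by norm_num)) (h 4 (by norm_num)),
    Matrix.trace_fin_three]
  rfl

end CfsgLib.Char.SU33
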