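/-
Evaluated checks for the tables of the special unitary group of dimension three over nine elements.
-/
import Cfsg.Agent.Lib.Char.SU33.Code

set_option autoImplicit false

namespace CfsgLib.Char.SU33

/-! ### Tables -/

/-- Lookup in a packed table with `w` digits per item. -/
def pget (w : ℕ) (L : List ℕ) (i : ℕ) : ℕ := ((L.getD (i / 32) 0) >>> (w * (i % 32))) &&& (2 ^ w - 1)

/-- The code of the `i`-th matrix. -/
def gCode (i : ℕ) : ℕ := pget 36 gTab i

/-- The `i`-th vector of norm one. -/
def uCode (i : ℕ) : ℕ := pget 12 uTab i

/-- An entry of a vector code. -/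
def vent (v r : ℕ) : ℕ := (v >>> (4 * r)) &&& 15

/-- The hermitian product of two vector codes. -/
def vHerm (u v : ℕ) : ℕ :=
  eAdd (eAdd (eMul (vent u 0) (eConj (vent v 0))) (eMul (vent u 1) (eConj (vent v 1))))
    (eMul (vent u 2) (eConj (vent v 2)))

/-- One coordinate of a cross product. -/
def crossE (u v p q : ℕ) : ℕ := eAdd (eMul (vent u p) (vent v q)) (eNeg (eMul (vent u q) (vent v p)))

/-- The third column determined by the first two. -/
def thirdCol (u v : ℕ) : ℕ :=
  eConj (crossE u v 1 2) + 16 * (eConj (crossE u v 2 0) + 16 * eConj (crossE u v 0 1))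

/-- A column of a code. -/
def colOf (A c : ℕ) : ℕ := (A >>> (12 * (2 - c))) &&& 4095

/-- Check that one listed code is a special unitary matrix. -/
def memCheck (i : ℕ) : Bool :=
  let A := gCode i
  ((List.range 9).all fun k => decide (entry A k < 9)) && (packM (entry A) == A) &&
    (thirdCol (colOf A 0) (colOf A 1) == colOf A 2) &&
    (vHerm (colOf A 0) (colOf A 0) == 1) && (vHerm (colOf A 1) (colOf A 1) == 1) &&
    (vHerm (colOf A 2) (colOf A 2) == 1) && (vHerm (colOf A 0) (colOf A 1) == 0) &&
    (vHerm (colOf A 0) (colOf A 2) == 0) && (vHerm (colOf A 1) (colOf A 2) == 0) &&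
    (invM A == invM A)

theorem memCheck_all : ((List.range 6048).all memCheck) = true := by decide +kernel

theorem sorted_check : ((List.range 6047).all fun i => decide (gCode i < gCode (i + 1))) = true := by
  decide +kernel

/-- Check that a vector of norm one is listed. -/
def unitCheck (x : ℕ) : Bool :=
  let v := x % 9 + 16 * (x / 9 % 9 + 16 * (x / 81))
  !(vHerm v v == 1) || (List.range 252).any fun i => uCode i == v

theorem unitCheck_all : ((List.range 729).all unitCheck) = true := by decide +kernel

/-- Check that all frames starting with one vector are listed. -/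
def frameCheck (i : ℕ) : Bool :=
  (List.range 252).all fun j => !(vHerm (uCode j) (uCode i) == 0) ||
    (List.range 24).any fun k =>
      (colOf (gCode (24 * i + k)) 0 == uCode i) && (colOf (gCode (24 * i + k)) 1 == uCode j)

theorem frameCheck_all : ((List.range 252).all frameCheck) = true := by decide +kernel

end CfsgLib.Char.SU33
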