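/-
The special unitary group of dimension three over a field with nine elements: complete list, order, centre,
inverse, and the fourteen classes.
-/
import Cfsg.Agent.Lib.Char.SU33.Checks
import Cfsg.Prelude.Def_Classical

set_option autoImplicit false

namespace CfsgLib.Char.SU33

open Matrix

/-! ### The dictionary -/

variable {F : Type*} [Field F] (R : Root F)

/-- The matrix of an element. -/
def mat (g : ↥(Cfsg.SU 3 F 3)) : Matrix (Fin 3) (Fin 3) F := g.1.1

theorem mat_mul (g h : ↥(Cfsg.SU 3 F 3)) : mat (g * h) = mat g * mat h := rfl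

theorem mat_one : mat (1 : ↥(Cfsg.SU 3 F 3)) = 1 := rfl

theorem mat_injective : Function.Injective (mat (F := F)) := fun _ _ h => Subtype.ext (Subtype.ext h)

theorem herm_col (g : ↥(Cfsg.SU 3 F 3)) (a b : Fin 3) :
    mat g 0 a * mat g 0 b ^ 3 + mat g 1 a * mat g 1 b ^ 3 + mat g 2 a * mat g 2 b ^ 3 =
      if a = b then 1 else 0 := by
  have h := g.2 (Pi.single a 1) (Pi.single b 1)
  simp only [Cfsg.hermForm, Fin.sum_univ_three] at h
  rw [show (Cfsg.slToMat 3 F g.1) *ᵥ Pi.single a 1 = fun r => mat g r a from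
      funext fun r => by simp [Cfsg.slToMat, Matrix.mulVec_single_one, mat],
    show (Cfsg.slToMat 3 F g.1) *ᵥ Pi.single b 1 = fun r => mat g r b from
      funext fun r => by simp [Cfsg.slToMat, Matrix.mulVec_single_one, mat]] at h
  rw [h]
  fin_cases a <;> fin_cases b <;> simp [Pi.single_apply]

theorem mem_su_of_cols {A : Matrix.SpecialLinearGroup (Fin 3) F}
    (h : ∀ a b : Fin 3, A.1 0 a * A.1 0 b ^ 3 + A.1 1 a * A.1 1 b ^ 3 + A.1 2 a * A.1 2 b ^ 3 =
      if a = b then 1 else 0) (hadd : ∀ x y : F, (x + y) ^ 3 = x ^ 3 + y ^ 3) : A ∈ Cfsg.SU 3 F 3 := by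
  intro u v
  have h00 := h 0 0; have h01 := h 0 1; have h02 := h 0 2
  have h10 := h 1 0; have h11 := h 1 1; have h12 := h 1 2
  have h20 := h 2 0; have h21 := h 2 1; have h22 := h 2 2
  simp only [Fin.isValue, if_pos, Fin.reduceEq, if_false] at h00 h01 h02 h10 h11 h12 h20 h21 h22
  simp only [Cfsg.hermForm, Fin.sum_univ_three, Cfsg.slToMat, MonoidHom.coe_comp, Units.coeHom_apply,
    Function.comp_apply, Matrix.SpecialLinearGroup.toGL, Matrix.mulVec, dotProduct]
  simp only [hadd, mul_pow]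
  linear_combination (u 0 * v 0 ^ 3) * h00 + (u 0 * v 1 ^ 3) * h01 + (u 0 * v 2 ^ 3) * h02 +
    (u 1 * v 0 ^ 3) * h10 + (u 1 * v 1 ^ 3) * h11 + (u 1 * v 2 ^ 3) * h12 +
    (u 2 * v 0 ^ 3) * h20 + (u 2 * v 1 ^ 3) * h21 + (u 2 * v 2 ^ 3) * h22

theorem cube_add (R : Root F) (x y : F) : (x + y) ^ 3 = x ^ 3 + y ^ 3 := by
  linear_combination (x ^ 2 * y + x * y ^ 2) * R.three

theorem colOf_eq {A : ℕ} {c : Fin 3} {r : Fin 3} : vent (colOf A c) r = entry A (posOf r c) := by
  apply Nat.eq_of_testBit_eq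
  intro j
  have hc := c.isLt; have hr := r.isLt
  simp only [vent, colOf, entry, posOf, Nat.testBit_and, Nat.testBit_shiftRight,
    show (15 : ℕ) = 2 ^ 4 - 1 from rfl, show (4095 : ℕ) = 2 ^ 12 - 1 from rfl, Nat.testBit_two_pow_sub_one]
  by_cases hj : j < 4
  · have : 4 * r.val + j < 12 := by omega
    simp only [hj, this, decide_true, Bool.and_true]
    congr 1
    omega
  · simp [hj]

theorem phi_vHerm {A : ℕ} (hA : Wf A) (a b : Fin 3) :
    vHerm (colOf A a) (colOf A b) < 9 ∧ phi R (vHerm (colOf A a) (colOf A b)) =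
      dec R A 0 a * dec R A 0 b ^ 3 + dec R A 1 a * dec R A 1 b ^ 3 + dec R A 2 a * dec R A 2 b ^ 3 := by
  have e : ∀ c r : Fin 3, vent (colOf A c) r < 9 ∧ phi R (vent (colOf A c) r) = dec R A r c := fun c r => by
    rw [colOf_eq]; exact ⟨hA.1 _ (posOf_lt r c), rfl⟩
  have hc : ∀ x, x < 9 → eConj x < 9 := fun x hx => (op_lt x hx x hx).2.2.1
  have hm : ∀ x y, x < 9 → y < 9 → eMul x y < 9 := fun x y hx hy => (op_lt x hx y hy).1
  have f0 : ∀ c : Fin 3, vent (colOf A c) 0 < 9 ∧ phi R (vent (colOf A c) 0) = dec R A 0 c := fun c => e c 0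
  have f1 : ∀ c : Fin 3, vent (colOf A c) 1 < 9 ∧ phi R (vent (colOf A c) 1) = dec R A 1 c := fun c => e c 1
  have f2 : ∀ c : Fin 3, vent (colOf A c) 2 < 9 ∧ phi R (vent (colOf A c) 2) = dec R A 2 c := fun c => e c 2
  have m0 := hm _ _ (f0 a).1 (hc _ (f0 b).1)
  have m1 := hm _ _ (f1 a).1 (hc _ (f1 b).1)
  have m2 := hm _ _ (f2 a).1 (hc _ (f2 b).1)
  have s := (op_lt _ m0 _ m1).2.1
  refine ⟨(op_lt _ s _ m2).2.1, ?_⟩
  rw [vHerm, phi_add R s m2, phi_add R m0 m1, phi_mul R (f0 a).1 (hc _ (f0 b).1),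
    phi_mul R (f1 a).1 (hc _ (f1 b).1), phi_mul R (f2 a).1 (hc _ (f2 b).1), phi_conj R (f0 b).1,
    phi_conj R (f1 b).1, phi_conj R (f2 b).1, (f0 a).2, (f1 a).2, (f2 a).2, (f0 b).2, (f1 b).2, (f2 b).2]

theorem memCheck_spec {i : ℕ} (hi : i < 6048) :
    Wf (gCode i) ∧ thirdCol (colOf (gCode i) 0) (colOf (gCode i) 1) = colOf (gCode i) 2 ∧
      ∀ a b : Fin 3, a ≤ b → vHerm (colOf (gCode i) a) (colOf (gCode i) b) = if a = b then 1 else 0 := by
  have h := List.all_eq_true.1 memCheck_all i (List.mem_range.2 hi)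
  simp only [memCheck, Bool.and_eq_true, List.all_eq_true, List.mem_range, decide_eq_true_eq, beq_iff_eq] at h
  obtain ⟨⟨⟨⟨⟨⟨⟨⟨⟨hw, hp⟩, ht⟩, h00⟩, h11⟩, h22⟩, h01⟩, h02⟩, h12⟩, -⟩ := h
  refine ⟨⟨hw, hp⟩, ht, fun a b hab => ?_⟩
  fin_cases a <;> fin_cases b <;>
    first
    | exact h00
    | exact h11
    | exact h22
    | exact h01
    | exact h02
    | exact h12
    | exact absurd hab (by decide)

theorem phi_crossE {u v p q : ℕ} (h : ∀ x ∈ [vent u p, vent u q, vent v p, vent v q], x < 9) :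
    crossE u v p q < 9 ∧ phi R (crossE u v p q) =
      phi R (vent u p) * phi R (vent v q) - phi R (vent u q) * phi R (vent v p) := by
  have a := h (vent u p) (by simp)
  have b := h (vent u q) (by simp)
  have c := h (vent v p) (by simp)
  have d := h (vent v q) (by simp)
  have m1 := (op_lt _ a _ d).1
  have m2 := (op_lt _ b _ c).1
  have n2 := (op_lt _ m2 _ m2).2.2.2
  refine ⟨(op_lt _ m1 _ n2).2.1, ?_⟩
  rw [crossE, phi_add R m1 n2, phi_neg R m2, phi_mul R a d, phi_mul R b c, sub_eq_add_neg]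

theorem vent_vec {x y z : ℕ} (hx : x < 9) (hy : y < 9) (hz : z < 9) :
    vent (x + 16 * (y + 16 * z)) 0 = x ∧ vent (x + 16 * (y + 16 * z)) 1 = y ∧
      vent (x + 16 * (y + 16 * z)) 2 = z := by
  simp only [vent, show (15 : ℕ) = 2 ^ 4 - 1 from rfl, Nat.shiftRight_eq_div_pow,
    Nat.and_two_pow_sub_one_eq_mod]
  norm_num
  omega

/-- The third column of a matrix with the code of its first two columns. -/
theorem phi_thirdCol {A : ℕ} (hA : Wf A) (r : Fin 3) :
    phi R (vent (thirdCol (colOf A 0) (colOf A 1)) r) =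
      (![dec R A 1 0 * dec R A 2 1 - dec R A 2 0 * dec R A 1 1,
        dec R A 2 0 * dec R A 0 1 - dec R A 0 0 * dec R A 2 1,
        dec R A 0 0 * dec R A 1 1 - dec R A 1 0 * dec R A 0 1] r) ^ 3 := by
  have e : ∀ c r : Fin 3, vent (colOf A c) r < 9 ∧ phi R (vent (colOf A c) r) = dec R A r c := fun c r => by
    rw [colOf_eq]; exact ⟨hA.1 _ (posOf_lt r c), rfl⟩
  have a0 : vent (colOf A 0) 0 < 9 ∧ phi R (vent (colOf A 0) 0) = dec R A 0 0 := e 0 0
  have a1 : vent (colOf A 0) 1 < 9 ∧ phi R (vent (colOf A 0) 1) = dec R A 1 0 := e 0 1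
  have a2 : vent (colOf A 0) 2 < 9 ∧ phi R (vent (colOf A 0) 2) = dec R A 2 0 := e 0 2
  have b0 : vent (colOf A 1) 0 < 9 ∧ phi R (vent (colOf A 1) 0) = dec R A 0 1 := e 1 0
  have b1 : vent (colOf A 1) 1 < 9 ∧ phi R (vent (colOf A 1) 1) = dec R A 1 1 := e 1 1
  have b2 : vent (colOf A 1) 2 < 9 ∧ phi R (vent (colOf A 1) 2) = dec R A 2 1 := e 1 2
  have c12 := phi_crossE R (u := colOf A 0) (v := colOf A 1) (p := 1) (q := 2) (by simp [a1, a2, b1, b2])
  have c20 := phi_crossE R (u := colOf A 0) (v := colOf A 1) (p := 2) (q := 0) (by simp [a0, a2, b0, b2])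
  have c01 := phi_crossE R (u := colOf A 0) (v := colOf A 1) (p := 0) (q := 1) (by simp [a0, a1, b0, b1])
  have k := fun x (hx : x < 9) => (op_lt x hx x hx).2.2.1
  obtain ⟨v0, v1, v2⟩ := vent_vec (k _ c12.1) (k _ c20.1) (k _ c01.1)
  rw [thirdCol]
  fin_cases r
  · show phi R (vent _ 0) = _
    rw [v0, phi_conj R c12.1, c12.2, a1.2, a2.2, b1.2, b2.2]; rfl
  · show phi R (vent _ 1) = _
    rw [v1, phi_conj R c20.1, c20.2, a0.2, a2.2, b0.2, b2.2]; rfl
  · show phi R (vent _ 2) = _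
    rw [v2, phi_conj R c01.1, c01.2, a0.2, a1.2, b0.2, b1.2]; rfl

theorem cube_cube (R : Root F) (x : F) : (x ^ 3) ^ 3 = x := by
  obtain ⟨a, ha, rfl⟩ := phi_surj R x
  have key : ∀ a < 9, eConj (eConj a) = a := by decide +kernel
  rw [← phi_conj R ha, ← phi_conj R (op_lt a ha a ha).2.2.1, key a ha]

/-- Every listed code is a special unitary matrix. -/
theorem exists_elem {i : ℕ} (hi : i < 6048) : ∃ g : ↥(Cfsg.SU 3 F 3), mat g = dec R (gCode i) := by
  obtain ⟨hw, ht, hh⟩ := memCheck_spec hi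
  set A := dec R (gCode i) with hA
  have hcol : ∀ a b : Fin 3, A 0 a * A 0 b ^ 3 + A 1 a * A 1 b ^ 3 + A 2 a * A 2 b ^ 3 =
      if a = b then 1 else 0 := by
    intro a b
    rcases le_total a b with hab | hab
    · rw [hA, ← (phi_vHerm R hw a b).2, hh a b hab]
      split_ifs <;> simp [phi_one, phi_zero]
    · have h1 := (phi_vHerm R hw b a).2
      rw [hh b a hab, ← hA] at h1
      have h2 := congrArg (· ^ 3) h1
      simp only [cube_add R, mul_pow, cube_cube R] at h2
      rw [show A 0 a * A 0 b ^ 3 + A 1 a * A 1 b ^ 3 + A 2 a * A 2 b ^ 3 =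
          A 0 b ^ 3 * A 0 a + A 1 b ^ 3 * A 1 a + A 2 b ^ 3 * A 2 a by ring, ← h2]
      by_cases e : a = b
      · subst e; simp [phi_one]
      · rw [if_neg e, if_neg (Ne.symm e), phi_zero, zero_pow three_ne_zero]
  have h3 : ∀ r : Fin 3, A r 2 = (![A 1 0 * A 2 1 - A 2 0 * A 1 1, A 2 0 * A 0 1 - A 0 0 * A 2 1,
      A 0 0 * A 1 1 - A 1 0 * A 0 1] r) ^ 3 := by
    intro r
    rw [hA, ← phi_thirdCol R hw r, ht]
    exact (congrArg (phi R) (colOf_eq (A := gCode i) (c := 2) (r := r))).symm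
  have hdet : A.det = 1 := by
    have h := hcol 2 2
    rw [if_pos rfl] at h
    have e0 := congrArg (· ^ 3) (h3 0)
    have e1 := congrArg (· ^ 3) (h3 1)
    have e2 := congrArg (· ^ 3) (h3 2)
    simp only [cube_cube R, Matrix.cons_val_zero, Matrix.cons_val_one, Matrix.cons_val_two,
      Matrix.tail_cons, Matrix.head_cons] at e0 e1 e2
    rw [Matrix.det_fin_three, ← h, e0, e1, e2]
    ring
  exact ⟨⟨⟨A, hdet⟩, mem_su_of_cols hcol (cube_add R)⟩, rfl⟩

/-- Every element is listed. -/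
theorem exists_index (g : ↥(Cfsg.SU 3 F 3)) : ∃ i < 6048, mat g = dec R (gCode i) := by
  choose e he he' using fun r c : Fin 3 => phi_surj R (mat g r c)
  let E : ℕ → ℕ := fun k => e ⟨k % 3, Nat.mod_lt _ (by norm_num)⟩ ⟨2 - k / 3, by omega⟩
  have hE : ∀ k < 9, E k < 9 := fun k _ => he _ _
  have hw : Wf (packM E) := wf_packM hE
  have hd : dec R (packM E) = mat g := Matrix.ext fun r c => by
    rw [dec_packM R hE, ← he' r c]
    refine congrArg (phi R) ?_
    show e _ _ = _
    congr 1 <;> (apply Fin.ext; simp only [posOf]; omega)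
  set C := packM E
  have col : ∀ a b : Fin 3, vHerm (colOf C a) (colOf C b) = if a = b then 1 else 0 := by
    intro a b
    refine phi_inj R (phi_vHerm R hw a b).1 (by split_ifs <;> norm_num) ?_
    rw [(phi_vHerm R hw a b).2, hd, herm_col g a b]
    split_ifs <;> simp [phi_one, phi_zero]
  have vec : ∀ c : Fin 3, ∃ x < 729, x % 9 + 16 * (x / 9 % 9 + 16 * (x / 81)) = colOf C c := by
    intro c
    have h : ∀ r : Fin 3, vent (colOf C c) r < 9 := fun r => by rw [colOf_eq]; exact hw.1 _ (posOf_lt r c)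
    have h0 : vent (colOf C c) 0 < 9 := h 0
    have h1 : vent (colOf C c) 1 < 9 := h 1
    have h2 : vent (colOf C c) 2 < 9 := h 2
    refine ⟨vent (colOf C c) 0 + 9 * (vent (colOf C c) 1 + 9 * vent (colOf C c) 2), by omega, ?_⟩
    rw [show (vent (colOf C c) 0 + 9 * (vent (colOf C c) 1 + 9 * vent (colOf C c) 2)) % 9 =
        vent (colOf C c) 0 by omega,
      show (vent (colOf C c) 0 + 9 * (vent (colOf C c) 1 + 9 * vent (colOf C c) 2)) / 9 % 9 =
        vent (colOf C c) 1 by omega,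
      show (vent (colOf C c) 0 + 9 * (vent (colOf C c) 1 + 9 * vent (colOf C c) 2)) / 81 =
        vent (colOf C c) 2 by omega]
    have hlt : colOf C c < 4096 := by
      rw [colOf, show (4095 : ℕ) = 2 ^ 12 - 1 from rfl, Nat.and_two_pow_sub_one_eq_mod]
      exact Nat.mod_lt _ (by norm_num)
    simp only [vent, show (15 : ℕ) = 2 ^ 4 - 1 from rfl, Nat.shiftRight_eq_div_pow,
      Nat.and_two_pow_sub_one_eq_mod]
    norm_num
    omega
  have unit : ∀ c : Fin 3, ∃ i < 252, uCode i = colOf C c := by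
    intro c
    obtain ⟨x, hx, e⟩ := vec c
    have h := List.all_eq_true.1 unitCheck_all x (List.mem_range.2 hx)
    simp only [unitCheck, e, Bool.or_eq_true, Bool.not_eq_true', List.any_eq_true, List.mem_range,
      beq_iff_eq, beq_eq_false_iff_ne] at h
    exact h.resolve_left (fun h => h (by rw [col c c, if_pos rfl]))
  obtain ⟨i, hi, eu⟩ := unit 0
  obtain ⟨j, hj, ev⟩ := unit 1
  have h := List.all_eq_true.1 frameCheck_all i (List.mem_range.2 hi)
  simp only [frameCheck, List.all_eq_true, Bool.or_eq_true, Bool.not_eq_true', List.any_eq_true,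
    List.mem_range, Bool.and_eq_true, beq_iff_eq, beq_eq_false_iff_ne] at h
  obtain ⟨k, hk, k0, k1⟩ := (h j hj).resolve_left (fun h => h (by rw [eu, ev, col 1 0]; rfl))
  refine ⟨24 * i + k, by omega, ?_⟩
  rw [eu] at k0
  rw [ev] at k1
  obtain ⟨g', hg'⟩ := exists_elem R (show 24 * i + k < 6048 by omega)
  obtain ⟨hw', -, -⟩ := memCheck_spec (show 24 * i + k < 6048 by omega)
  rw [← hg']
  have same : ∀ r c : Fin 3, c ≠ 2 → mat g r c = mat g' r c := by
    intro r c hc
    rw [hg', ← hd]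
    show phi R _ = phi R _
    rw [← colOf_eq, ← colOf_eq]
    fin_cases c
    · exact congrArg (fun v => phi R (vent v r)) k0.symm
    · exact congrArg (fun v => phi R (vent v r)) k1.symm
    · exact absurd rfl hc
  have hdet : ∀ g : ↥(Cfsg.SU 3 F 3), (mat g).det = 1 := fun g => g.1.2
  have inv : ∀ g : ↥(Cfsg.SU 3 F 3), (mat g).adjugate = (mat g).transpose.map (fun x => x ^ 3) := by
    intro g
    have hu : (mat g).transpose.map (fun x => x ^ 3) * mat g = 1 := Matrix.ext fun a b => by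
      rw [Matrix.mul_apply, Fin.sum_univ_three, Matrix.one_apply]
      simp only [Matrix.map_apply, Matrix.transpose_apply]
      have := herm_col g b a
      rw [show mat g 0 a ^ 3 * mat g 0 b + mat g 1 a ^ 3 * mat g 1 b + mat g 2 a ^ 3 * mat g 2 b =
        mat g 0 b * mat g 0 a ^ 3 + mat g 1 b * mat g 1 a ^ 3 + mat g 2 b * mat g 2 a ^ 3 by ring, this]
      by_cases e : a = b
      · subst e; simp
      · simp [e, Ne.symm e]
    calc (mat g).adjugate = ((mat g).transpose.map (fun x => x ^ 3) * mat g) * (mat g).adjugate := by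
          rw [hu, Matrix.one_mul]
      _ = _ := by rw [Matrix.mul_assoc, Matrix.mul_adjugate, hdet, one_smul, Matrix.mul_one]
  have third : ∀ g : ↥(Cfsg.SU 3 F 3), ∀ r : Fin 3, mat g r 2 ^ 3 = (![mat g 1 0 * mat g 2 1 - mat g 2 0 * mat g 1 1,
      mat g 2 0 * mat g 0 1 - mat g 0 0 * mat g 2 1, mat g 0 0 * mat g 1 1 - mat g 1 0 * mat g 0 1] r) := by
    intro g r
    have := congrFun (congrFun (inv g) 2) r
    rw [Matrix.adjugate_fin_three] at this
    simp only [Matrix.map_apply, Matrix.transpose_apply] at this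
    rw [← this]
    fin_cases r <;> simp <;> ring
  refine Matrix.ext fun r c => ?_
  by_cases hc : c = 2
  · subst hc
    have e1 := third g r
    have e2 := third g' r
    simp only [same _ 0 (by decide), same _ 1 (by decide)] at e1
    rw [← e2] at e1
    rw [← cube_cube R (mat g r 2), e1, cube_cube R]
  · exact same r c hc

/-- The elements, by index. -/
noncomputable def elem (i : Fin 6048) : ↥(Cfsg.SU 3 F 3) := (exists_elem R i.isLt).choose

theorem mat_elem (i : Fin 6048) : mat (elem R i) = dec R (gCode i) := (exists_elem R i.isLt).choose_spec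

theorem gCode_strictMono : ∀ i j, i < j → j < 6048 → gCode i < gCode j := by
  intro i j hij
  induction j with
  | zero => omega
  | succ j ih =>
    intro hj
    have hs := List.all_eq_true.1 sorted_check j (List.mem_range.2 (by omega))
    simp only [decide_eq_true_eq] at hs
    rcases Nat.lt_succ_iff_lt_or_eq.1 hij with h | rfl
    · exact (ih h (by omega)).trans hs
    · exact hs

theorem elem_bijective : Function.Bijective (elem R) := by
  refine ⟨fun i j h => ?_, fun g => ?_⟩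
  · have h1 := congrArg mat h
    rw [mat_elem, mat_elem] at h1
    have h2 := dec_inj R (memCheck_spec i.isLt).1 (memCheck_spec j.isLt).1 h1
    rcases lt_trichotomy i.val j.val with h | h | h
    · exact absurd h2 (gCode_strictMono _ _ h j.isLt).ne
    · exact Fin.ext h
    · exact absurd h2 (gCode_strictMono _ _ h i.isLt).ne'
  · obtain ⟨i, hi, e⟩ := exists_index R g
    exact ⟨⟨i, hi⟩, mat_injective (by rw [mat_elem, e])⟩

/-- The order of the group. -/
theorem card_su33 (R : Root F) : Nat.card ↥(Cfsg.SU 3 F 3) = 6048 := by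
  rw [← Nat.card_congr (Equiv.ofBijective _ (elem_bijective R)), Nat.card_fin]

theorem mat_inv (g : ↥(Cfsg.SU 3 F 3)) : mat g⁻¹ = (mat g).transpose.map (fun x => x ^ 3) := by
  have hu : (mat g).transpose.map (fun x => x ^ 3) * mat g = 1 := Matrix.ext fun a b => by
    rw [Matrix.mul_apply, Fin.sum_univ_three, Matrix.one_apply]
    simp only [Matrix.map_apply, Matrix.transpose_apply]
    have := herm_col g b a
    rw [show mat g 0 a ^ 3 * mat g 0 b + mat g 1 a ^ 3 * mat g 1 b + mat g 2 a ^ 3 * mat g 2 b =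
      mat g 0 b * mat g 0 a ^ 3 + mat g 1 b * mat g 1 a ^ 3 + mat g 2 b * mat g 2 a ^ 3 by ring, this]
    by_cases e : a = b
    · subst e; simp
    · simp [e, Ne.symm e]
  calc mat g⁻¹ = ((mat g).transpose.map (fun x => x ^ 3) * mat g) * mat g⁻¹ := by rw [hu, Matrix.one_mul]
    _ = _ := by rw [Matrix.mul_assoc, ← mat_mul, mul_inv_cancel, mat_one, Matrix.mul_one]

end CfsgLib.Char.SU33
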