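/-
The fourteen classes of the special unitary group of dimension three over nine elements, and the evaluated
eigenfunction identities.
-/
import Cfsg.Agent.Lib.Char.SU33.Group

set_option autoImplicit false

namespace CfsgLib.Char.SU33

open Matrix

/-- The class number from the trace and three polynomial conditions. -/
def classOf (A : ℕ) : ℕ :=
  let t := trM A
  if t = 0 then
    (if A = oneM then 9 else if mulM (subOne A) (subOne A) = 0 then 10 else 4)
  else if t = 1 then 0 else if t = 2 then (if mulM (mulM A A) (mulM A A) = oneM then 1 else 11)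
  else if t = 3 then 2 else if t = 6 then 3 else if t = 4 then 5 else if t = 7 then 7
  else if t = 5 then (if mulM (mulM A A) (mulM A A) = oneM then 13 else 6)
  else (if mulM (mulM A A) (mulM A A) = oneM then 12 else 8)

/-- The code of a class representative. -/
def repCode (k : ℕ) : ℕ := gCode (repTab.getD k 0)

/-- Check of the conjugation certificate. -/
def conjCheck (i : ℕ) : Bool :=
  let A := gCode i
  let k := classOf A
  let c := pget 13 conjTab i
  decide (k < 14) && decide (c < 6048) && (mulM A (gCode c) == mulM (gCode c) (repCode k))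

theorem conjCheck_all : ((List.range 6048).all conjCheck) = true := by decide +kernel

theorem repTab_check : ((List.range 14).all fun k => decide (repTab.getD k 0 < 6048)) = true := by
  decide +kernel

/-- Only the identity representative is central. -/
theorem center_check : ((List.range 14).all fun k => decide (k = 9) ||
    (List.range 14).any fun l => !(mulM (repCode k) (repCode l) == mulM (repCode l) (repCode k))) = true := by
  decide +kernel

theorem involList_check : ((List.range 6048).filter fun i => classOf (gCode i) == 1) = involList := by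
  decide +kernel

theorem transList_check : ((List.range 6048).filter fun i => classOf (gCode i) == 10) = transList := by
  decide +kernel

/-- Sum of a class function over a translate of a listed class. -/
def classSum (L : List ℕ) (val : List ℤ) (r : ℕ) : ℤ :=
  (L.map fun i => val.getD (classOf (mulM (invM (gCode i)) (repCode r))) 0).sum

/-- The eigenvalue identities. -/
def eigCheck (L : List ℕ) (val : List ℤ) (ev : ℤ) : Bool :=
  (List.range 14).all fun r => classSum L val r == ev * val.getD (classOf (repCode r)) 0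

theorem eig_six_invol : eigCheck involList valSix (-21) = true := by decide +kernel
theorem eig_six_trans : eigCheck transList valSix (-28) = true := by decide +kernel
theorem eig_twentyOne_invol : eigCheck involList valTwentyOne 15 = true := by decide +kernel
theorem eig_fourteen_trans : eigCheck transList valFourteen 20 = true := by decide +kernel

/-! ### Invariance -/

variable {F : Type*} [Field F] (R : Root F)

/-- The code of an element. -/
noncomputable def codeOf (g : ↥(Cfsg.SU 3 F 3)) : ℕ := gCode (exists_index R g).choose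

theorem codeOf_spec (g : ↥(Cfsg.SU 3 F 3)) : Wf (codeOf R g) ∧ dec R (codeOf R g) = mat g :=
  ⟨(memCheck_spec (exists_index R g).choose_spec.1).1, (exists_index R g).choose_spec.2.symm⟩

theorem codeOf_eq {g : ↥(Cfsg.SU 3 F 3)} {C : ℕ} (hC : Wf C) (h : dec R C = mat g) : codeOf R g = C :=
  dec_inj R (codeOf_spec R g).1 hC ((codeOf_spec R g).2.trans h.symm)

theorem codeOf_mul (g h : ↥(Cfsg.SU 3 F 3)) : codeOf R (g * h) = mulM (codeOf R g) (codeOf R h) := by
  obtain ⟨hw, hd⟩ := mulM_spec R (codeOf_spec R g).1 (codeOf_spec R h).1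
  exact codeOf_eq R hw (by rw [hd, (codeOf_spec R g).2, (codeOf_spec R h).2, mat_mul])

theorem codeOf_inv (g : ↥(Cfsg.SU 3 F 3)) : codeOf R g⁻¹ = invM (codeOf R g) := by
  obtain ⟨hw, hd⟩ := invM_spec R (codeOf_spec R g).1
  exact codeOf_eq R hw (by rw [hd, (codeOf_spec R g).2, mat_inv])

theorem codeOf_one : codeOf R 1 = oneM := codeOf_eq R (oneM_spec R).1 (oneM_spec R).2

theorem codeOf_injective : Function.Injective (codeOf R) := fun g h e =>
  mat_injective (by rw [← (codeOf_spec R g).2, e, (codeOf_spec R h).2])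

theorem codeOf_elem (i : Fin 6048) : codeOf R (elem R i) = gCode i :=
  codeOf_eq R (memCheck_spec i.isLt).1 (mat_elem R i).symm

theorem wf_zero : Wf 0 ∧ dec R 0 = 0 :=
  ⟨⟨by decide +kernel, by decide +kernel⟩, Matrix.ext fun r c => by simp [dec, entry, phi]⟩

theorem classOf_conj (g h : ↥(Cfsg.SU 3 F 3)) :
    classOf (codeOf R (h * g * h⁻¹)) = classOf (codeOf R g) := by
  set x := h * g * h⁻¹
  have hx : mat x = mat h * mat g * mat h⁻¹ := rfl
  have hi : mat h⁻¹ * mat h = 1 := by rw [← mat_mul, inv_mul_cancel, mat_one]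
  have e1 : trM (codeOf R x) = trM (codeOf R g) := by
    refine phi_inj R (trM_spec R (codeOf_spec R x).1).1 (trM_spec R (codeOf_spec R g).1).1 ?_
    rw [(trM_spec R (codeOf_spec R x).1).2, (trM_spec R (codeOf_spec R g).1).2, (codeOf_spec R x).2,
      (codeOf_spec R g).2, hx, Matrix.trace_mul_cycle, hi, Matrix.one_mul]
  have e2 : codeOf R x = oneM ↔ codeOf R g = oneM := by
    rw [← codeOf_one R, (codeOf_injective R).eq_iff, (codeOf_injective R).eq_iff]
    exact conj_eq_one_iff
  have e4 : mulM (mulM (codeOf R x) (codeOf R x)) (mulM (codeOf R x) (codeOf R x)) = oneM ↔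
      mulM (mulM (codeOf R g) (codeOf R g)) (mulM (codeOf R g) (codeOf R g)) = oneM := by
    simp only [← codeOf_mul, ← codeOf_one R, (codeOf_injective R).eq_iff]
    rw [show x * x * (x * x) = h * (g * g * (g * g)) * h⁻¹ by simp only [x]; group, conj_eq_one_iff]
  have sq : ∀ y : ↥(Cfsg.SU 3 F 3), mulM (subOne (codeOf R y)) (subOne (codeOf R y)) = 0 ↔
      (mat y - 1) * (mat y - 1) = 0 := by
    intro y
    obtain ⟨hw, hd⟩ := subOne_spec R (codeOf_spec R y).1
    obtain ⟨hw2, hd2⟩ := mulM_spec R hw hw
    rw [hd, (codeOf_spec R y).2] at hd2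
    exact ⟨fun e => by rw [← hd2, e, (wf_zero R).2],
      fun e => dec_inj R hw2 (wf_zero R).1 (by rw [hd2, e, (wf_zero R).2])⟩
  have e3 : mulM (subOne (codeOf R x)) (subOne (codeOf R x)) = 0 ↔
      mulM (subOne (codeOf R g)) (subOne (codeOf R g)) = 0 := by
    rw [sq, sq, hx]
    have hi' : mat h * mat h⁻¹ = 1 := by rw [← mat_mul, mul_inv_cancel, mat_one]
    have e : mat h * mat g * mat h⁻¹ - 1 = mat h * (mat g - 1) * mat h⁻¹ := by
      rw [Matrix.mul_sub, Matrix.sub_mul, Matrix.mul_one, hi']
    have e' : mat h * (mat g - 1) * mat h⁻¹ * (mat h * (mat g - 1) * mat h⁻¹) =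
        mat h * ((mat g - 1) * (mat g - 1)) * mat h⁻¹ := by
      simp only [Matrix.mul_assoc]
      rw [← Matrix.mul_assoc (mat h⁻¹) (mat h), hi, Matrix.one_mul]
    rw [e, e']
    refine ⟨fun z => ?_, fun z => by rw [z, Matrix.mul_zero, Matrix.zero_mul]⟩
    have := congrArg (fun M => mat h⁻¹ * M * mat h) z
    simp only [Matrix.mul_zero, Matrix.zero_mul] at this
    rw [show mat h⁻¹ * (mat h * ((mat g - 1) * (mat g - 1)) * mat h⁻¹) * mat h =
      mat h⁻¹ * mat h * ((mat g - 1) * (mat g - 1)) * (mat h⁻¹ * mat h) by simp only [Matrix.mul_assoc],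
      hi, Matrix.one_mul, Matrix.mul_one] at this
    exact this
  simp only [classOf, e1, e2, e3, e4]

/-- A representative of each class. -/
noncomputable def rep (k : Fin 14) : ↥(Cfsg.SU 3 F 3) :=
  elem R ⟨repTab.getD k 0, by
    have := List.all_eq_true.1 repTab_check k.val (List.mem_range.2 k.isLt)
    simpa using this⟩

theorem codeOf_rep (k : Fin 14) : codeOf R (rep R k) = repCode k := codeOf_elem R _

theorem exists_conj_rep (g : ↥(Cfsg.SU 3 F 3)) :
    ∃ (k : Fin 14) (c : ↥(Cfsg.SU 3 F 3)), classOf (codeOf R g) = k ∧ g = c * rep R k * c⁻¹ := by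
  obtain ⟨i, rfl⟩ := (elem_bijective R).2 g
  have h := List.all_eq_true.1 conjCheck_all i.val (List.mem_range.2 i.isLt)
  simp only [conjCheck, Bool.and_eq_true, decide_eq_true_eq, beq_iff_eq] at h
  obtain ⟨⟨hk, hc⟩, e⟩ := h
  refine ⟨⟨_, hk⟩, elem R ⟨_, hc⟩, by rw [codeOf_elem], ?_⟩
  rw [eq_mul_inv_iff_mul_eq]
  refine codeOf_injective R ?_
  rw [codeOf_mul, codeOf_mul, codeOf_elem, codeOf_elem, codeOf_rep]
  exact e

theorem isConj_iff_classOf (g h : ↥(Cfsg.SU 3 F 3)) :
    IsConj g h ↔ classOf (codeOf R g) = classOf (codeOf R h) := by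
  constructor
  · rintro hc
    obtain ⟨c, rfl⟩ := isConj_iff.1 hc
    rw [classOf_conj]
  · intro e
    obtain ⟨k, c, hk, rfl⟩ := exists_conj_rep R g
    obtain ⟨l, d, hl, rfl⟩ := exists_conj_rep R h
    have : k = l := Fin.ext (hk.symm.trans (e.trans hl))
    subst this
    exact (isConj_iff.2 ⟨c, rfl⟩).symm.trans (isConj_iff.2 ⟨d, rfl⟩)

/-- The centre is trivial. -/
theorem center_eq_bot (R : Root F) : Subgroup.center ↥(Cfsg.SU 3 F 3) = ⊥ := by
  refine (Subgroup.eq_bot_iff_forall _).2 fun g hg => ?_
  obtain ⟨k, c, hk, e⟩ := exists_conj_rep R g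
  have hgk : g = rep R k := by
    have h1 := Subgroup.mem_center_iff.1 hg c
    rw [e] at h1 ⊢
    have h2 : c * rep R k * c⁻¹ * c = c * rep R k := by group
    rw [h2] at h1
    exact mul_left_cancel h1
  have hc := List.all_eq_true.1 center_check k.val (List.mem_range.2 k.isLt)
  simp only [Bool.or_eq_true, decide_eq_true_eq, List.any_eq_true, List.mem_range, Bool.not_eq_true',
    beq_eq_false_iff_ne] at hc
  rcases hc with hc | ⟨l, hl, hne⟩
  · have h9 : classOf oneM = 9 := by decide +kernel
    have := (isConj_iff_classOf R 1 g).2 (by rw [codeOf_one, h9, hk, hc])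
    exact (isConj_one_right.1 this)
  · exfalso
    apply hne
    have h1 := Subgroup.mem_center_iff.1 hg (rep R ⟨l, hl⟩)
    rw [hgk] at h1
    have h2 := congrArg (codeOf R) h1
    rw [codeOf_mul, codeOf_mul, codeOf_rep, codeOf_rep] at h2
    exact h2.symm

end CfsgLib.Char.SU33
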