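/-
A finite commutative ring with a character that has trivial stabiliser in the unit group gives a solvable
group with an irreducible character of degree divisible by the number of units; for the ring of 144 elements
this is a group of order 6048 with a degree divisible by 42.
-/
import Cfsg.Agent.Lib.Char.Inertia
import Cfsg.Agent.Lib.Char.Integrality
import Cfsg.Agent.Lib.Char.Virtual

set_option autoImplicit false

namespace CfsgLib.Char.SU33

open scoped ComplexConjugate
open Cfsg

/-- Multiplication by units as automorphisms of the additive group. -/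
def unitsAct (R : Type) [CommRing R] : Rˣ →* MulAut (Multiplicative R) where
  toFun k :=
    { toFun := fun a => Multiplicative.ofAdd ((k : R) * a.toAdd)
      invFun := fun a => Multiplicative.ofAdd (((k⁻¹ : Rˣ) : R) * a.toAdd)
      left_inv := fun a => by simp [← mul_assoc]
      right_inv := fun a => by simp [← mul_assoc]
      map_mul' := fun a b => by simp [mul_add] }
  map_one' := MulEquiv.ext fun a => by simp
  map_mul' k l := MulEquiv.ext fun a => by simp [mul_assoc]

/-- The affine group of a commutative ring. -/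
abbrev Affine (R : Type) [CommRing R] : Type := Multiplicative R ⋊[unitsAct R] Rˣ

theorem affine_solvable (R : Type) [CommRing R] : Group.IsSolvable (Affine R) := by
  exact Group.isSolvable_of_ker_le_range
    (SemidirectProduct.inl : Multiplicative R →* Affine R) SemidirectProduct.rightHom
    SemidirectProduct.range_inl_eq_ker_rightHom.ge

theorem exists_degree_units_dvd {R : Type} [CommRing R] [Finite R] (ψ : AddChar R ℂ)
    (hψ : ∀ k : Rˣ, (∀ a, ψ ((k : R) * a) = ψ a) → k = 1) :
    ∃ θ : IrrCharacter (Affine R), ∀ d : ℕ, (θ : Affine R → ℂ) 1 = d → Nat.card Rˣ ∣ d := by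
  classical
  haveI : Finite (Multiplicative R) := Finite.of_equiv R Multiplicative.ofAdd
  haveI : Finite (Affine R) := Finite.of_equiv _ SemidirectProduct.equivProd.symm
  letI := Fintype.ofFinite (Affine R)
  let N : Subgroup (Affine R) := (SemidirectProduct.rightHom : Affine R →* Rˣ).ker
  letI := Fintype.ofFinite N
  haveI := Fintype.ofFinite (IrrCharacter (Affine R))
  have hN : ∀ n : N, (n : Affine R).right = 1 := fun n => n.2
  let lam : N →* ℂ :=
    { toFun := fun n => ψ (n : Affine R).left.toAdd
      map_one' := by simp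
      map_mul' := fun a b => by
        simp only [Subgroup.coe_mul, SemidirectProduct.mul_left, hN a, map_one, MulAut.one_apply, toAdd_mul]
        exact AddChar.map_add_eq_mul ψ _ _ }
  let lamU : N →* ℂˣ := lam.toHomUnits
  let χ : IrrCharacter N := ⟨fun n => (lamU n : ℂ), isIrrCharacter_lin lamU⟩
  have hχ : ∀ n : N, (χ : N → ℂ) n = ψ (n : Affine R).left.toAdd := fun n => rfl
  obtain ⟨θ, hθ⟩ : ∃ θ : IrrCharacter (Affine R),
      classInner (fun n : N => (θ : Affine R → ℂ) n) (χ : N → ℂ) ≠ 0 := by
    by_contra hc
    push Not at hc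
    have h0 : classInner (fun n : N => (Representation.leftRegular ℂ (Affine R)).character n) (χ : N → ℂ) = 0 := by
      rw [regular_char_expand]
      simp only [Finset.sum_apply, Pi.smul_apply]
      rw [show (fun n : N => ∑ θ : IrrCharacter (Affine R), (θ : Affine R → ℂ) 1 • (θ : Affine R → ℂ) n) =
          ∑ θ : IrrCharacter (Affine R), (θ : Affine R → ℂ) 1 • fun n : N => (θ : Affine R → ℂ) n from by
        funext n; simp [Finset.sum_apply], classInner_sum_left]
      refine Finset.sum_eq_zero fun θ _ => ?_
      rw [classInner_smul_left, hc θ, mul_zero]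
    simp only [regular_char, classInner, OneMemClass.coe_eq_one, ite_mul, zero_mul, Finset.sum_ite_eq',
      Finset.mem_univ, if_true, conj_irr_one, mul_eq_zero, inv_eq_zero, Nat.cast_eq_zero] at h0
    rcases h0 with h | h | h
    · exact Nat.card_pos.ne' h
    · exact Nat.card_pos.ne' h
    · exact irr_one_ne_zero χ h
  refine ⟨θ, fun d hd => ?_⟩
  have hI : inertia N (χ : N → ℂ) = N := by
    refine le_antisymm (fun g hg => ?_) (le_inertia N (isClassFunction_irr χ))
    refine MonoidHom.mem_ker.2 (hψ g.right fun a => ?_)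
    have h := congrFun hg ⟨SemidirectProduct.inl (Multiplicative.ofAdd a), rfl⟩
    simp only [conjFun, hχ, SemidirectProduct.mul_left, SemidirectProduct.mul_right, SemidirectProduct.inv_left,
      SemidirectProduct.left_inl, SemidirectProduct.right_inl, mul_one, toAdd_mul, toAdd_ofAdd] at h
    rw [← h]
    congr 1
    simp [unitsAct]
  obtain ⟨m, hm⟩ := classInner_char_irr_nat (G := N) (isCharacter_comp (isCharacter_irr θ) N.subtype) χ
  have hm' : classInner (fun n : N => (θ : Affine R → ℂ) n) (χ : N → ℂ) = m := hm
  have h := clifford_degree N θ.2 χ.2 hθ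
  rw [hm', hI, show (χ : N → ℂ) 1 = 1 from by rw [hχ]; exact AddChar.map_zero_eq_one ψ, mul_one, hd] at h
  have hidx : N.index = Nat.card Rˣ := by
    rw [Subgroup.index_ker, Nat.card_congr]
    exact Equiv.ofBijective (fun x => (x : Rˣ)) ⟨Subtype.val_injective, fun k =>
      ⟨⟨k, SemidirectProduct.inr k, rfl⟩, rfl⟩⟩
  rw [hidx] at h
  exact ⟨m, by rw [mul_comm]; exact_mod_cast h⟩

/-- A nontrivial character of a finite field is moved by every unit other than one. -/
theorem addChar_stab_field {K : Type} [Field K] {ψ : AddChar K ℂ} (hψ : ψ ≠ 1) (k : K)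
    (h : ∀ a, ψ (k * a) = ψ a) : k = 1 := by
  by_contra hk
  refine hψ (AddChar.ext _ _ fun x => ?_)
  have h1 : k - 1 ≠ 0 := sub_ne_zero.2 hk
  have e := h ((k - 1)⁻¹ * x)
  rw [AddChar.one_apply]
  have e2 : k * ((k - 1)⁻¹ * x) = (k - 1)⁻¹ * x + x := by field_simp; ring
  rw [e2, AddChar.map_add_eq_mul] at e
  exact mul_left_cancel₀ (ψ.val_isUnit _).ne_zero (e.trans (mul_one _).symm)

/-- The ring with 144 elements. -/
abbrev Ring144 : Type := GaloisField 2 3 × ZMod 18

/-- The solvable group of order 6048. -/
abbrev SolvGroup : Type := Affine Ring144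

theorem finite_ring144 : Finite Ring144 := by
  haveI : Finite (GaloisField 2 3) := Nat.finite_of_card_ne_zero (by rw [GaloisField.card 2 3 (by norm_num)]; norm_num)
  infer_instance

theorem card_units_ring144 : Nat.card Ring144ˣ = 42 := by
  haveI : Finite (GaloisField 2 3) := Nat.finite_of_card_ne_zero (by rw [GaloisField.card 2 3 (by norm_num)]; norm_num)
  rw [Nat.card_congr MulEquiv.prodUnits.toEquiv, Nat.card_prod, Nat.card_units, GaloisField.card 2 3 (by norm_num),
    Nat.card_eq_fintype_card, ZMod.card_units_eq_totient]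
  decide +kernel

theorem solvGroup_finite : Finite SolvGroup := by
  haveI := finite_ring144
  exact Finite.of_equiv _ SemidirectProduct.equivProd.symm

theorem card_solvGroup : Nat.card SolvGroup = 6048 := by
  rw [SemidirectProduct.card, card_units_ring144, Nat.card_congr Multiplicative.toAdd, Nat.card_prod,
    GaloisField.card 2 3 (by norm_num), Nat.card_zmod]
  norm_num

theorem exists_degree_dvd_fortyTwo :
    ∃ θ : IrrCharacter SolvGroup, ∀ d : ℕ, (θ : SolvGroup → ℂ) 1 = d → 42 ∣ d := by
  haveI := finite_ring144
  haveI : Finite (GaloisField 2 3) := Nat.finite_of_card_ne_zero (by rw [GaloisField.card 2 3 (by norm_num)]; norm_num)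
  obtain ⟨φ, hφ⟩ : ∃ φ : AddChar (GaloisField 2 3) ℂ, φ 1 ≠ 1 :=
    AddChar.exists_apply_ne_zero.2 one_ne_zero
  let ψ : AddChar Ring144 ℂ := AddChar.mk (fun x => φ x.1 * ZMod.stdAddChar x.2)
    (by simp) (fun a b => by simp [AddChar.map_add_eq_mul]; ring)
  have hψ : ∀ k : Ring144ˣ, (∀ a, ψ ((k : Ring144) * a) = ψ a) → k = 1 := by
    intro k h
    refine Units.ext (Prod.ext ?_ ?_)
    · refine addChar_stab_field (ψ := φ) (fun e => hφ (by rw [e, AddChar.one_apply])) _ fun a => ?_
      have := h (a, 0)
      simpa [ψ] using this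
    · have := h (0, 1)
      simp only [ψ, AddChar.coe_mk, Prod.fst_mul, Prod.snd_mul, mul_zero, mul_one, AddChar.map_zero_eq_one,
        one_mul] at this
      exact ZMod.injective_stdAddChar this
  obtain ⟨θ, hθ⟩ := exists_degree_units_dvd ψ hψ
  exact ⟨θ, fun d hd => card_units_ring144 ▸ hθ d hd⟩

end CfsgLib.Char.SU33
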