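/-
The character degree graph of the projective special unitary group of dimension three over nine elements and
of the solvable group of the same order.
-/
import Cfsg.Agent.Lib.Char.SU33.Classes
import Cfsg.Agent.Lib.Char.SU33.Solvable
import Cfsg.Agent.Lib.Char.EigenDegree

set_option autoImplicit false

namespace CfsgLib.Char.SU33

open Cfsg

variable {F : Type*} [Field F] (R : Root F)

theorem su_finite (R : Root F) : Finite ↥(Cfsg.SU 3 F 3) :=
  Finite.of_equiv _ (Equiv.ofBijective _ (elem_bijective R))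

/-- The members of a class, from a list of indices. -/
noncomputable def classSet [DecidableEq ↥(Cfsg.SU 3 F 3)] (L : List ℕ) : Finset ↥(Cfsg.SU 3 F 3) :=
  (L.map fun i => elem R ⟨i % 6048, Nat.mod_lt _ (by norm_num)⟩).toFinset

theorem class_data [DecidableEq ↥(Cfsg.SU 3 F 3)] {L : List ℕ} {k : Fin 14}
    (hL : ((List.range 6048).filter fun i => classOf (gCode i) == k.val) = L)
    (hk : classOf (repCode k) = k) :
    (L.map fun i => elem R ⟨i % 6048, Nat.mod_lt _ (by norm_num)⟩).Nodup ∧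
      ∀ x, x ∈ classSet R L ↔ IsConj (rep R k) x := by
  subst hL
  have hlt : ∀ i ∈ (List.range 6048).filter (fun i => classOf (gCode i) == k.val), i < 6048 :=
    fun i hi => List.mem_range.1 (List.mem_filter.1 hi).1
  refine ⟨(List.nodup_range.filter _).map_on fun i hi j hj h => ?_, fun x => ?_⟩
  · have := congrArg Fin.val ((elem_bijective R).1 h)
    simp only [Nat.mod_eq_of_lt (hlt i hi), Nat.mod_eq_of_lt (hlt j hj)] at this
    exact this
  · rw [classSet, List.mem_toFinset, List.mem_map, isConj_iff_classOf R, codeOf_rep, hk]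
    constructor
    · rintro ⟨i, hi, rfl⟩
      rw [codeOf_elem]
      simp only [Nat.mod_eq_of_lt (hlt i hi)]
      exact (beq_iff_eq.1 (List.mem_filter.1 hi).2).symm
    · intro e
      obtain ⟨i, rfl⟩ := (elem_bijective R).2 x
      rw [codeOf_elem] at e
      refine ⟨i, List.mem_filter.2 ⟨List.mem_range.2 i.isLt, beq_iff_eq.2 e.symm⟩, ?_⟩
      congr 1
      exact Fin.ext (Nat.mod_eq_of_lt i.isLt)

theorem eigen_of_check [DecidableEq ↥(Cfsg.SU 3 F 3)] {L : List ℕ} {k : Fin 14} {val : List ℤ} {ev : ℤ}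
    (hL : ((List.range 6048).filter fun i => classOf (gCode i) == k.val) = L)
    (hk : classOf (repCode k) = k) (he : eigCheck L val ev = true) (g : ↥(Cfsg.SU 3 F 3)) :
    ∑ x ∈ classSet R L, val.getD (classOf (codeOf R (x⁻¹ * g))) 0 = ev * val.getD (classOf (codeOf R g)) 0 := by
  obtain ⟨r, c, hr, rfl⟩ := exists_conj_rep R g
  obtain ⟨hnd, hmem⟩ := class_data R hL hk
  have h1 : ∑ x ∈ classSet R L, val.getD (classOf (codeOf R (x⁻¹ * (c * rep R r * c⁻¹)))) 0 =
      ∑ x ∈ classSet R L, val.getD (classOf (codeOf R (x⁻¹ * rep R r))) 0 := by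
    refine Finset.sum_nbij' (fun x => c⁻¹ * x * c) (fun x => c * x * c⁻¹)
      (fun x hx => (hmem _).2 (((hmem x).1 hx).trans (isConj_iff.2 ⟨c⁻¹, by simp⟩)))
      (fun x hx => (hmem _).2 (((hmem x).1 hx).trans (isConj_iff.2 ⟨c, rfl⟩)))
      (fun x _ => by group) (fun x _ => by group) (fun x _ => ?_)
    rw [← classOf_conj R (x⁻¹ * (c * rep R r * c⁻¹)) c⁻¹]
    refine congrArg (fun y => val.getD (classOf (codeOf R y)) 0) ?_
    group
  rw [h1, classOf_conj, codeOf_rep, classSet, List.sum_toFinset _ hnd, List.map_map]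
  have h2 := List.all_eq_true.1 he r.val (List.mem_range.2 r.isLt)
  simp only [beq_iff_eq] at h2
  rw [← h2, classSum]
  refine congrArg List.sum ?_
  refine List.map_congr_left fun i hi => ?_
  have hi' : i < 6048 := by
    rw [← hL] at hi
    exact List.mem_range.1 (List.mem_filter.1 hi).1
  simp only [Function.comp_apply, codeOf_mul, codeOf_inv, codeOf_elem, codeOf_rep, Nat.mod_eq_of_lt hi']

theorem card_classSet [DecidableEq ↥(Cfsg.SU 3 F 3)] {L : List ℕ} {k : Fin 14}
    (hL : ((List.range 6048).filter fun i => classOf (gCode i) == k.val) = L)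
    (hk : classOf (repCode k) = k) : (classSet R L).card = L.length := by
  rw [classSet, List.toFinset_card_of_nodup (class_data R hL hk).1, List.length_map]

theorem valFn_conj (val : List ℤ) (g h : ↥(Cfsg.SU 3 F 3)) :
    val.getD (classOf (codeOf R (g * h * g⁻¹))) 0 = val.getD (classOf (codeOf R h)) 0 := by
  rw [classOf_conj]

theorem valFn_ne_zero (val : List ℤ) (h : val.getD (classOf oneM) 0 ≠ 0) :
    (fun g : ↥(Cfsg.SU 3 F 3) => val.getD (classOf (codeOf R g)) 0) ≠ 0 := fun e => h (by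
  have := congrFun e 1
  simpa [codeOf_one] using this)

theorem exists_degree_six (R : Root F) : ∃ χ : IrrCharacter ↥(Cfsg.SU 3 F 3),
    2 * 3 ∣ charDegree (χ : ↥(Cfsg.SU 3 F 3) → ℂ) := by
  classical
  haveI := su_finite R
  obtain ⟨χ, hχ⟩ := exists_degree_dvd_of_eigen (ι := Bool)
    (fun g => valSix.getD (classOf (codeOf R g)) 0) (fun g h => valFn_conj R _ g h)
    (valFn_ne_zero R _ (by decide +kernel))
    (fun b => cond b (rep R 1) (rep R 10)) (fun b => cond b (classSet R involList) (classSet R transList))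
    (fun b x => by
      cases b
      · exact (class_data R (k := 10) transList_check (by decide +kernel)).2 x
      · exact (class_data R (k := 1) involList_check (by decide +kernel)).2 x)
    (fun b => cond b (-21) (-28))
    (fun b g => by
      cases b
      · exact eigen_of_check R (k := 10) transList_check (by decide +kernel) eig_six_trans g
      · exact eigen_of_check R (k := 1) involList_check (by decide +kernel) eig_six_invol g)
    (fun _ => -1) (fun b => cond b 3 2)
    (fun b => by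
      cases b
      · simp only [cond_false, card_classSet R (k := 10) transList_check (by decide +kernel)]; decide
      · simp only [cond_true, card_classSet R (k := 1) involList_check (by decide +kernel)]; decide)
    (fun b => ⟨-1, 0, by cases b <;> norm_num⟩)
  exact ⟨χ, Nat.Coprime.mul_dvd_of_dvd_of_dvd (by norm_num) (hχ false) (hχ true)⟩

theorem exists_degree_single {k : Fin 14} {L : List ℕ} {val : List ℤ} {ev r : ℤ} {s : ℕ}
    (hL : ((List.range 6048).filter fun i => classOf (gCode i) == k.val) = L)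
    (hk : classOf (repCode k) = k) (he : eigCheck L val ev = true) (h1 : val.getD (classOf oneM) 0 ≠ 0)
    (hrs : (s : ℤ) * ev = r * L.length) (hcop : IsCoprime r (s : ℤ)) (R : Root F) :
    ∃ χ : IrrCharacter ↥(Cfsg.SU 3 F 3), s ∣ charDegree (χ : ↥(Cfsg.SU 3 F 3) → ℂ) := by
  classical
  haveI := su_finite R
  obtain ⟨χ, hχ⟩ := exists_degree_dvd_of_eigen (ι := Unit)
    (fun g => val.getD (classOf (codeOf R g)) 0) (fun g h => valFn_conj R _ g h) (valFn_ne_zero R _ h1)
    (fun _ => rep R k) (fun _ => classSet R L) (fun _ x => (class_data R hL hk).2 x)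
    (fun _ => ev) (fun _ g => eigen_of_check R hL hk he g) (fun _ => r) (fun _ => s)
    (fun _ => by rw [card_classSet R hL hk]; exact hrs) (fun _ => hcop)
  exact ⟨χ, hχ ()⟩

theorem degree_edges (R : Root F) {p q : ℕ} (hp : p ∈ ({2, 3, 7} : Finset ℕ)) (hq : q ∈ ({2, 3, 7} : Finset ℕ))
    (hpq : p ≠ q) : ∃ d ∈ charDegrees ↥(Cfsg.SU 3 F 3), p * q ∣ d := by
  obtain ⟨a, ha⟩ := exists_degree_six R
  obtain ⟨b, hb⟩ : ∃ χ : IrrCharacter ↥(Cfsg.SU 3 F 3), 21 ∣ charDegree (χ : ↥(Cfsg.SU 3 F 3) → ℂ) :=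
    exists_degree_single (k := 1) (r := 5) involList_check (by decide +kernel) eig_twentyOne_invol
      (by decide +kernel) (by decide) ⟨-4, 1, by norm_num⟩ R
  obtain ⟨c, hc⟩ : ∃ χ : IrrCharacter ↥(Cfsg.SU 3 F 3), 14 ∣ charDegree (χ : ↥(Cfsg.SU 3 F 3) → ℂ) :=
    exists_degree_single (k := 10) (r := 5) transList_check (by decide +kernel) eig_fourteen_trans
      (by decide +kernel) (by decide) ⟨3, -1, by norm_num⟩ R
  simp only [Finset.mem_insert, Finset.mem_singleton] at hp hq
  rcases hp with rfl | rfl | rfl <;> rcases hq with rfl | rfl | rfl <;>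
    first
    | exact absurd rfl hpq
    | exact ⟨_, ⟨a, rfl⟩, ha⟩
    | exact ⟨_, ⟨b, rfl⟩, hb⟩
    | exact ⟨_, ⟨c, rfl⟩, hc⟩

theorem charDegrees_congr {A B : Type*} [Group A] [Group B] (e : A ≃* B) : charDegrees A = charDegrees B := by
  ext d
  constructor
  · rintro ⟨χ, rfl⟩
    refine ⟨⟨_, isIrrCharacter_comp_surjective χ.2 e.symm.toMonoidHom e.symm.surjective⟩, ?_⟩
    simp [charDegree]
  · rintro ⟨χ, rfl⟩
    refine ⟨⟨_, isIrrCharacter_comp_surjective χ.2 e.toMonoidHom e.surjective⟩, ?_⟩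
    simp [charDegree]

theorem prime_mem_of_dvd {A : Type*} [Group A] [Finite A] (hA : Nat.card A = 6048) {d p : ℕ}
    (hd : d ∈ charDegrees A) (hp : p.Prime) (hpd : p ∣ d) : p ∈ ({2, 3, 7} : Finset ℕ) := by
  obtain ⟨χ, rfl⟩ := hd
  have h := hpd.trans (degree_dvd_card χ (irr_one_eq_charDegree χ))
  rw [hA, show (6048 : ℕ) = 2 ^ 5 * (3 ^ 3 * 7) from rfl] at h
  simp only [Finset.mem_insert, Finset.mem_singleton]
  rcases hp.dvd_mul.1 h with h | h
  · exact .inl ((Nat.prime_dvd_prime_iff_eq hp Nat.prime_two).1 (hp.dvd_of_dvd_pow h))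
  rcases hp.dvd_mul.1 h with h | h
  · exact .inr (.inl ((Nat.prime_dvd_prime_iff_eq hp Nat.prime_three).1 (hp.dvd_of_dvd_pow h)))
  · exact .inr (.inr ((Nat.prime_dvd_prime_iff_eq hp (by norm_num)).1 h))

theorem prime_of_mem {p : ℕ} (hp : p ∈ ({2, 3, 7} : Finset ℕ)) : p.Prime := by
  simp only [Finset.mem_insert, Finset.mem_singleton] at hp
  rcases hp with rfl | rfl | rfl <;> norm_num

/-- A group of order 6048 in which each two of the three primes divide some degree has the complete graph. -/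
theorem graph_complete {A : Type*} [Group A] [Finite A] (hA : Nat.card A = 6048)
    (h : ∀ p ∈ ({2, 3, 7} : Finset ℕ), ∀ q ∈ ({2, 3, 7} : Finset ℕ), p ≠ q → ∃ d ∈ charDegrees A, p * q ∣ d) :
    degreePrimes A = {p | p ∈ ({2, 3, 7} : Finset ℕ)} ∧
      (degreeGraph A).Adj = fun p q => p ≠ q ∧ p ∈ ({2, 3, 7} : Finset ℕ) ∧ q ∈ ({2, 3, 7} : Finset ℕ) := by
  refine ⟨Set.ext fun p => ⟨fun ⟨hp, d, hd, hpd⟩ => prime_mem_of_dvd hA hd hp hpd, fun hp => ?_⟩,
    funext fun p => funext fun q => propext ⟨?_, ?_⟩⟩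
  · obtain ⟨q, hq, hpq⟩ : ∃ q ∈ ({2, 3, 7} : Finset ℕ), p ≠ q := by
      by_cases h2 : p = 2
      · exact ⟨3, by decide, by omega⟩
      · exact ⟨2, by decide, h2⟩
    obtain ⟨d, hd, hdvd⟩ := h p hp q hq hpq
    exact ⟨prime_of_mem hp, d, hd, (dvd_mul_right p q).trans hdvd⟩
  · rintro ⟨hpq, hp, hq, d, hd, hdvd⟩
    exact ⟨hpq, prime_mem_of_dvd hA hd hp ((dvd_mul_right p q).trans hdvd),
      prime_mem_of_dvd hA hd hq ((dvd_mul_left q p).trans hdvd)⟩
  · rintro ⟨hpq, hp, hq⟩
    exact ⟨hpq, prime_of_mem hp, prime_of_mem hq, h p hp q hq hpq⟩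

theorem main {F : Type*} [Field F] [Fintype F] (hF : Fintype.card F = 9) :
    ∃ (H : Type) (_ : Group H) (_ : Fintype H), Group.IsSolvable H ∧ Nat.card H = 6048 ∧
      degreePrimes H = degreePrimes (Cfsg.PSU 3 F 3) ∧ degreeGraph H = degreeGraph (Cfsg.PSU 3 F 3) := by
  obtain ⟨R⟩ := exists_root hF
  haveI := solvGroup_finite
  haveI := su_finite R
  letI := Fintype.ofFinite SolvGroup
  let E : Cfsg.PSU 3 F 3 ≃* ↥(Cfsg.SU 3 F 3) :=
    (QuotientGroup.quotientMulEquivOfEq (center_eq_bot R)).trans QuotientGroup.quotientBot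
  haveI : Finite (Cfsg.PSU 3 F 3) := Finite.of_equiv _ E.symm.toEquiv
  have hU := graph_complete (A := Cfsg.PSU 3 F 3) ((Nat.card_congr E.toEquiv).trans (card_su33 R))
    fun p hp q hq hpq => by rw [charDegrees_congr E]; exact degree_edges R hp hq hpq
  have hH := graph_complete (A := SolvGroup) card_solvGroup fun p hp q hq hpq => by
    obtain ⟨θ, hθ⟩ := exists_degree_dvd_fortyTwo
    refine ⟨_, ⟨θ, rfl⟩, Dvd.dvd.trans ?_ (hθ _ (irr_one_eq_charDegree θ))⟩
    simp only [Finset.mem_insert, Finset.mem_singleton] at hp hq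
    rcases hp with rfl | rfl | rfl <;> rcases hq with rfl | rfl | rfl <;>
      first
      | exact absurd rfl hpq
      | decide
  exact ⟨SolvGroup, inferInstance, inferInstance, affine_solvable Ring144, card_solvGroup,
    hH.1.trans hU.1.symm, SimpleGraph.ext (hH.2.trans hU.2.symm)⟩

end CfsgLib.Char.SU33
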